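import Groth.Prelude.Def_GrTwist
import Mathlib.RingTheory.Flat.EquationalCriterion
import Mathlib.RingTheory.RingHom.Flat

/-!
The equational criterion for degree pieces of a graded ring with eventually flat pieces.
-/

universe u

open scoped BigOperators

namespace Groth.Agent.RelFlat47

variable {R A σ : Type u} [CommRing R] [CommRing A] [SetLike σ A] [AddSubgroupClass σ A]
  (𝒜 : ℕ → σ) [GradedRing 𝒜] (φ : R →+* A)

theorem mem_of_mem_span (hφ : ∀ r, φ r ∈ 𝒜 0) (d : ℕ) {x : A}
    (hx : letI := φ.toAlgebra; x ∈ Submodule.span R (𝒜 d : Set A)) : x ∈ 𝒜 d := by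
  letI := φ.toAlgebra
  induction hx using Submodule.span_induction with
  | mem x h => exact h
  | zero => exact zero_mem _
  | add a b _ _ ha hb => exact add_mem ha hb
  | smul r a _ ha =>
    rw [Algebra.smul_def]
    have := SetLike.mul_mem_graded (A := 𝒜) (hφ r) ha
    rwa [zero_add] at this

/-- A relation between homogeneous elements of one degree becomes trivial after multiplication by a
homogeneous element killing it and a high power of an element of positive degree. -/
theorem exists_trivial (hφ : ∀ r, φ r ∈ 𝒜 0) {d₀ : ℕ}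
    (hflat : ∀ d, d₀ ≤ d → letI := φ.toAlgebra; Module.Flat R ↥(Submodule.span R (𝒜 d : Set A)))
    {m : ℕ} (a : Fin m → R) {i : ℕ} (b : Fin m → A) (hb : ∀ l, b l ∈ 𝒜 i)
    {τ : ℕ} {t : A} (ht : t ∈ 𝒜 τ) {e : ℕ} (he : 0 < e) {g : A} (hg : g ∈ 𝒜 e)
    (hrel : t * ∑ l, φ (a l) * b l = 0) :
    ∃ (N k : ℕ) (c : Fin m → Fin k → R) (z : Fin k → A),
      (∀ q, z q ∈ 𝒜 (i + (τ + N * e))) ∧ (∀ l, b l * (t * g ^ N) = ∑ q, φ (c l q) * z q) ∧
        ∀ q, ∑ l, a l * c l q = 0 := by
  letI := φ.toAlgebra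
  have hd : d₀ ≤ i + (τ + d₀ * e) := by
    have : d₀ ≤ d₀ * e := Nat.le_mul_of_pos_right d₀ he
    omega
  haveI := hflat _ hd
  have hmem : ∀ l, b l * (t * g ^ d₀) ∈ 𝒜 (i + (τ + d₀ * e)) := fun l => by
    have h1 := SetLike.mul_mem_graded (A := 𝒜) ht (SetLike.pow_mem_graded d₀ hg)
    have h2 := SetLike.mul_mem_graded (A := 𝒜) (hb l) h1
    simpa using h2
  let x : Fin m → ↥(Submodule.span R (𝒜 (i + (τ + d₀ * e)) : Set A)) :=
    fun l => ⟨b l * (t * g ^ d₀), Submodule.subset_span (hmem l)⟩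
  have hx : ∑ l, a l • x l = 0 := by
    apply Subtype.ext
    simp only [Submodule.coe_sum, Submodule.coe_smul, Submodule.coe_zero, Algebra.smul_def, x]
    calc ∑ l, φ (a l) * (b l * (t * g ^ d₀))
        = (t * ∑ l, φ (a l) * b l) * g ^ d₀ := by
          rw [Finset.mul_sum, Finset.sum_mul]
          exact Finset.sum_congr rfl fun l _ => by ring
      _ = 0 := by rw [hrel, zero_mul]
  obtain ⟨k, c, z, hxz, hc⟩ := Module.Flat.isTrivialRelation_of_sum_smul_eq_zero hx
  refine ⟨d₀, k, c, fun q => z q, fun q => mem_of_mem_span 𝒜 φ hφ _ (z q).2, fun l => ?_, hc⟩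
  have := congrArg (fun v : ↥(Submodule.span R (𝒜 (i + (τ + d₀ * e)) : Set A)) => (v : A)) (hxz l)
  simp only [Submodule.coe_sum, Submodule.coe_smul, Algebra.smul_def, x] at this
  exact this

/-- A homogeneous component outside a prime of an element killing a homogeneous element. -/
theorem exists_homogeneous_annihilator {P : Ideal A} {u h : A} (hu : u ∉ P) (huh : u * h = 0)
    {i : ℕ} (hh : h ∈ 𝒜 i) : ∃ (τ : ℕ) (t : A), t ∈ 𝒜 τ ∧ t ∉ P ∧ t * h = 0 := by
  classical
  by_contra hc
  push Not at hc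
  refine hu ?_
  rw [← DirectSum.sum_support_decompose 𝒜 u]
  refine Ideal.sum_mem _ fun τ _ => ?_
  by_contra hP
  refine hc τ _ (SetLike.coe_mem _) hP ?_
  have h1 := DirectSum.coe_decompose_mul_add_of_right_mem 𝒜 (i := τ) (j := i) (a := u) hh
  rw [huh, DirectSum.decompose_zero, DirectSum.zero_apply, ZeroMemClass.coe_zero] at h1
  exact h1.symm

/-- The power `f ^ M` in the submonoid of powers. -/
def pw (f : A) (M : ℕ) : Submonoid.powers f := ⟨f ^ M, M, rfl⟩

open HomogeneousLocalization in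
/-- Degree-zero localisations away from an element of positive degree are flat. -/
theorem flat_away (hφ : ∀ r, φ r ∈ 𝒜 0) {d₀ : ℕ}
    (hflat : ∀ d, d₀ ≤ d → letI := φ.toAlgebra; Module.Flat R ↥(Submodule.span R (𝒜 d : Set A)))
    {e : ℕ} (he : 0 < e) {f : A} (hf : f ∈ 𝒜 e) (ψ : R →+* Away 𝒜 f)
    (hψ : ∀ r, (ψ r).val = Localization.mk (φ r) (1 : Submonoid.powers f)) : ψ.Flat := by
  letI := ψ.toAlgebra
  change Module.Flat R (Away 𝒜 f)
  rw [Module.Flat.iff_forall_isTrivialRelation]
  intro m a x hx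
  choose n b hb hxe using fun l => Away.mk_surjective 𝒜 hf (x l)
  let M := ∑ l, n l
  have hnM : ∀ l, n l ≤ M := fun l => Finset.single_le_sum (fun _ _ => Nat.zero_le _) (Finset.mem_univ l)
  let b' : Fin m → A := fun l => b l * f ^ (M - n l)
  have hb' : ∀ l, b' l ∈ 𝒜 (M • e) := fun l => by
    have h := SetLike.mul_mem_graded (A := 𝒜) (hb l) (SetLike.pow_mem_graded (M - n l) hf)
    rw [← add_smul, Nat.add_sub_cancel' (hnM l)] at h
    exact h
  have hxe' : ∀ l, (x l).val = Localization.mk (b' l) (pw f M) := fun l => by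
    rw [← hxe l, Away.val_mk, Localization.mk_eq_mk_iff, Localization.r_iff_exists]
    exact ⟨1, by simp only [OneMemClass.coe_one, one_mul, b', pw]; rw [mul_comm (b l), ← mul_assoc, ← pow_add,
      Nat.add_sub_cancel' (hnM l)]⟩
  have hv := congrArg HomogeneousLocalization.val hx
  have hval : ∀ {k : ℕ} (r : Fin k → R) (y : Fin k → Away 𝒜 f) (z : Fin k → A) (M' : ℕ),
      (∀ q, (y q).val = Localization.mk (z q) (pw f M')) →
      (∑ q, r q • y q).val = Localization.mk (∑ q, φ (r q) * z q) (pw f M') := by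
    intro k r y z M' hy
    rw [← HomogeneousLocalization.algebraMap_apply, map_sum,
      Localization.mk_sum]
    refine Finset.sum_congr rfl fun q _ => ?_
    rw [HomogeneousLocalization.algebraMap_apply, Algebra.smul_def, HomogeneousLocalization.val_mul,
      RingHom.algebraMap_toAlgebra, hψ, hy, Localization.mk_mul]
    rw [one_mul]
  rw [hval a x b' M hxe', HomogeneousLocalization.val_zero, ← Localization.mk_zero (pw f M),
    Localization.mk_eq_mk_iff, Localization.r_iff_exists] at hv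
  obtain ⟨⟨_, w, rfl⟩, hw⟩ := hv
  have hrel : f ^ w * f ^ M * ∑ l, φ (a l) * b' l = 0 := by
    simpa [mul_assoc, pw] using hw
  obtain ⟨N, k, c, z, hz, hbz, hc⟩ := exists_trivial 𝒜 φ hφ hflat a b' hb'
    (SetLike.mul_mem_graded (SetLike.pow_mem_graded w hf) (SetLike.pow_mem_graded M hf)) he hf hrel
  have hz' : ∀ q, z q ∈ 𝒜 ((M + (w + M + N)) • e) := fun q => by
    convert hz q using 2
    simp only [smul_eq_mul]
    ring
  refine ⟨k, c, fun q => Away.mk 𝒜 hf _ (z q) (hz' q), fun l => ?_, hc⟩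
  apply HomogeneousLocalization.val_injective
  rw [hxe', hval (c l) _ z (M + (w + M + N)) (fun q => Away.val_mk 𝒜 _ hf _ _),
    Localization.mk_eq_mk_iff, Localization.r_iff_exists]
  exact ⟨1, by
    rw [← hbz l]
    simp only [OneMemClass.coe_one, one_mul, pw]
    ring⟩

end Groth.Agent.RelFlat47
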